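import Mathlib
import Groth.Prelude.Def_EGA4b
import Groth.Prelude.Def_CAlg
import Groth.Agent.H84.PowSec_SCH
import Groth.Agent.H75.PowSec_K1
import Groth.Agent.H54.PowSec_K2
import Groth.Agent.H98.PowSec_K3

/-! The pieces for S16668, proved by helper84 (SCH), helper75 (K1), helper54 (K2, K3b, K3c) and
helper98 (K3), re-exported under one namespace. -/

set_option autoImplicit false
universe u
open RingTheory.Sequence AlgebraicGeometry CategoryTheory

namespace Groth.Agent.H59.PowSec

/-- (SCH) Hartogs on an affine Noetherian scheme, ring form. -/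
theorem bijective_res_of_regular_pair (B : Type u) [CommRing B] [IsNoetherianRing B]
    (W : (Spec (CommRingCat.of B)).Opens)
    (h : ∀ z : ↥(Spec (CommRingCat.of B)), z ∉ W →
      ∃ a b : Localization.AtPrime z.asIdeal,
        a ∈ IsLocalRing.maximalIdeal (Localization.AtPrime z.asIdeal) ∧
        b ∈ IsLocalRing.maximalIdeal (Localization.AtPrime z.asIdeal) ∧
        IsWeaklyRegular (Localization.AtPrime z.asIdeal) [a, b]) :
    Function.Bijective ((Spec (CommRingCat.of B)).presheaf.map
      (homOfLE (le_top : W ≤ ⊤)).op).hom :=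
  Groth.Agent.H84.PowSec_SCH.bijective_res_of_regular_pair B W h

/-- (K1) height of the image of a prime modulo an ideal generated by a regular sequence. -/
theorem two_le_height_map {A : Type u} [CommRing A] [IsNoetherianRing A] (rs : List A)
    (hrs : IsRegular A rs) (x : Ideal A) [x.IsPrime] (hpx : Ideal.ofList rs ≤ x)
    (h : (Ideal.ofList rs).height + 2 ≤ x.height) :
    2 ≤ (x.map (Ideal.Quotient.mk (Ideal.ofList rs))).height :=
  Groth.Agent.H75.PowSec_K1.two_le_height_map rs hrs x hpx h

/-- (K2) Serre's `S₂` for a normal Noetherian domain, in global explicit form. -/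
theorem exists_regular_pair_of_normal (R : Type u) [CommRing R] [IsDomain R] [IsNoetherianRing R]
    [IsIntegrallyClosed R] (q : Ideal R) [q.IsPrime] (hq : 2 ≤ q.height) :
    ∃ a b : R, a ∈ q ∧ b ∈ q ∧ IsWeaklyRegular R [a, b] :=
  Groth.Agent.H54.PowSec_K2.exists_regular_pair_of_normal R q hq

/-- (K3) a pair regular modulo an ideal generated by a regular sequence is regular modulo its
powers. -/
theorem isWeaklyRegular_quot_pow {S : Type u} [CommRing S] (rs : List S)
    (hrs : IsWeaklyRegular S rs) (a b : S)
    (hab : IsWeaklyRegular (S ⧸ Ideal.ofList rs) [a, b]) (m : ℕ) :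
    IsWeaklyRegular (S ⧸ Ideal.ofList rs ^ m) [a, b] :=
  Groth.Agent.H98.PowSec_K3.isWeaklyRegular_quot_pow rs hrs a b hab m

end Groth.Agent.H59.PowSec
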