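import Groth.Agent.S0601
import Groth.Agent.H59.PowSec.Pieces

/-!
# helper59: assembly for S16668 (sections of `A ⧸ p ^ m` extend from the regular locus)
-/

set_option autoImplicit false
set_option linter.style.haveILetI false
universe u
open RingTheory.Sequence AlgebraicGeometry CategoryTheory

namespace Groth.Agent.H59.PowSec

section R1

variable (A : Type u) [CommRing A] [IsDomain A] [IsNoetherianRing A] [IsIntegrallyClosed A]

/-- (R1) a non-regular point of a normal Noetherian domain has height at least two. -/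
theorem two_le_height_of_not_regular (q : Ideal A) [q.IsPrime]
    (hq : ¬ IsRegularLocalRing (Localization.AtPrime q)) : 2 ≤ q.height := by
  have hR1 : LocCoh.HasRk 1 A := by
    refine ((Groth.Agent.S0601.result A).mp ?_).1
    intro p _
    have hS := Ideal.primeCompl_le_nonZeroDivisors p
    exact ⟨IsLocalization.isDomain_localization hS,
      isIntegrallyClosed_of_isLocalization _ p.primeCompl hS⟩
  by_contra hlt
  apply hq
  apply hR1 q
  rw [not_le] at hlt
  have : q.height < 1 + 1 := by simpa [one_add_one_eq_two] using hlt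
  exact_mod_cast Order.le_of_lt_add_one this

/-- the height of the ideal of the singular locus is at least two. -/
theorem two_le_height_sing (J : Ideal A)
    (hJ : ∀ x : PrimeSpectrum A, J ≤ x.asIdeal ↔ x ∉ EGA4.regLocus A) : 2 ≤ J.height := by
  rw [Ideal.height_eq_inf_minimalPrimes]
  refine le_iInf₂ fun q hq => ?_
  haveI : q.IsPrime := hq.1.1
  exact two_le_height_of_not_regular A q ((hJ ⟨q, hq.1.1⟩).mp hq.1.2)

end R1

/-- the main statement. -/
theorem main (A : Type u) [CommRing A] [IsDomain A] [IsIntegrallyClosed A] [IsNoetherianRing A]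
    (J : Ideal A) (hJ : ∀ x : PrimeSpectrum A, J ≤ x.asIdeal ↔ x ∉ EGA4.regLocus A)
    (p : Ideal A) [p.IsPrime] (rs : List A) (hrs : RingTheory.Sequence.IsRegular A rs)
    (hp : Ideal.ofList rs = p) (hnorm : IsIntegrallyClosed (A ⧸ p))
    (hht : p.height + J.height ≤ (p ⊔ J).height)
    (U : (Spec (CommRingCat.of A)).Opens)
    (hUreg : ∀ x : PrimeSpectrum A, p ≤ x.asIdeal → x ∈ EGA4.regLocus A → x ∈ U.1)
    (m : ℕ) :
    Function.Bijective ((Spec (CommRingCat.of (A ⧸ p ^ m))).presheaf.map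
      (homOfLE (le_top : Spec.map (CommRingCat.ofHom (Ideal.Quotient.mk (p ^ m))) ⁻¹ᵁ U ≤ ⊤)).op).hom := by
  subst hp
  apply bijective_res_of_regular_pair
  intro z hz
  -- the point of `Spec A` below `z`
  set x : PrimeSpectrum A := PrimeSpectrum.comap (Ideal.Quotient.mk (Ideal.ofList rs ^ m)) z with hx
  have hxU : x ∉ U.1 := fun h => hz h
  have hpx : Ideal.ofList rs ≤ x.asIdeal := by
    have h1 : Ideal.ofList rs ^ m ≤ x.asIdeal := by
      intro a ha
      show Ideal.Quotient.mk (Ideal.ofList rs ^ m) a ∈ z.asIdeal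
      rw [Ideal.Quotient.eq_zero_iff_mem.mpr ha]
      exact zero_mem _
    exact x.isPrime.le_of_pow_le h1
  have hxreg : x ∉ EGA4.regLocus A := fun h => hxU (hUreg x hpx h)
  have hJx : J ≤ x.asIdeal := (hJ x).mpr hxreg
  have hht2 : (Ideal.ofList rs).height + 2 ≤ x.asIdeal.height := by
    calc (Ideal.ofList rs).height + 2 ≤ (Ideal.ofList rs).height + J.height :=
          add_le_add_right (two_le_height_sing A J hJ) _
      _ ≤ (Ideal.ofList rs ⊔ J).height := hht
      _ ≤ x.asIdeal.height := Ideal.height_mono (sup_le hpx hJx)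
  haveI : x.asIdeal.IsPrime := x.isPrime
  have hq2 := two_le_height_map rs hrs x.asIdeal hpx hht2
  -- the normal domain `R = A ⧸ p`
  haveI : IsDomain (A ⧸ Ideal.ofList rs) := Ideal.Quotient.isDomain _
  haveI : (x.asIdeal.map (Ideal.Quotient.mk (Ideal.ofList rs))).IsPrime :=
    Ideal.map_isPrime_of_surjective Ideal.Quotient.mk_surjective
      (by rw [Ideal.mk_ker]; exact hpx)
  obtain ⟨a', b', ha', hb', hab'⟩ := exists_regular_pair_of_normal (A ⧸ Ideal.ofList rs)
    (x.asIdeal.map (Ideal.Quotient.mk (Ideal.ofList rs))) hq2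
  obtain ⟨a, rfl⟩ := Ideal.Quotient.mk_surjective a'
  obtain ⟨b, rfl⟩ := Ideal.Quotient.mk_surjective b'
  have hmem : ∀ c : A, Ideal.Quotient.mk (Ideal.ofList rs) c ∈
      x.asIdeal.map (Ideal.Quotient.mk (Ideal.ofList rs)) → c ∈ x.asIdeal := by
    intro c hc
    have := Ideal.mem_comap.mpr hc
    rwa [Ideal.comap_map_of_surjective _ Ideal.Quotient.mk_surjective, ← RingHom.ker_eq_comap_bot,
      Ideal.mk_ker, sup_eq_left.mpr hpx] at this
  have hax : a ∈ x.asIdeal := hmem a ha'
  have hbx : b ∈ x.asIdeal := hmem b hb'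
  -- regular on `A ⧸ p` as an `A`-module
  have h1 : IsWeaklyRegular (A ⧸ Ideal.ofList rs) [a, b] :=
    (isWeaklyRegular_map_algebraMap_iff (A ⧸ Ideal.ofList rs) (A ⧸ Ideal.ofList rs) [a, b]).mp hab'
  -- regular on `A ⧸ p ^ m` as an `A`-module
  have h2 := isWeaklyRegular_quot_pow rs hrs.toIsWeaklyRegular a b h1 m
  -- regular on `B = A ⧸ p ^ m` as a `B`-module
  have h3 : IsWeaklyRegular (A ⧸ Ideal.ofList rs ^ m)
      ([a, b].map (algebraMap A (A ⧸ Ideal.ofList rs ^ m))) :=
    (isWeaklyRegular_map_algebraMap_iff (A ⧸ Ideal.ofList rs ^ m) (A ⧸ Ideal.ofList rs ^ m)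
      [a, b]).mpr h2
  -- localize at `z`
  haveI : z.asIdeal.IsPrime := z.isPrime
  have h4 := h3.of_flat (S := Localization.AtPrime z.asIdeal)
  refine ⟨algebraMap _ _ (Ideal.Quotient.mk (Ideal.ofList rs ^ m) a),
    algebraMap _ _ (Ideal.Quotient.mk (Ideal.ofList rs ^ m) b), ?_, ?_, ?_⟩
  · exact (IsLocalization.AtPrime.to_map_mem_maximal_iff _ z.asIdeal _).mpr hax
  · exact (IsLocalization.AtPrime.to_map_mem_maximal_iff _ z.asIdeal _).mpr hbx
  · exact h4

end Groth.Agent.H59.PowSec
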